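import Mathlib

/-!
# A local criterion for invertibility
-/

set_option autoImplicit false

universe u

open TensorProduct

namespace GrothLib.Different2

variable {B M : Type u} [CommRing B] [AddCommGroup M] [Module B M]

/-- A faithful module which is locally generated by one element is invertible. -/
theorem invertible_of_locally_cyclic (hann : ∀ b : B, (∀ x : M, b • x = 0) → b = 0)
    (h : ∀ q : Ideal B, q.IsMaximal → ∃ (m : M) (t : B), t ∉ q ∧ ∀ x : M, ∃ c : B, c • m = t • x) :
    Module.Invertible B M := by
  classical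
  let S : Set B := {b | ∃ (φ : M →ₗ[B] B) (m : M), (∀ x y : M, φ x • y = φ y • x) ∧ φ m = b}
  have hS : Ideal.span S = ⊤ := by
    by_contra hne
    obtain ⟨q, hq, hle⟩ := Ideal.exists_le_maximal _ hne
    obtain ⟨m, t, ht, hc⟩ := h q hq
    choose c hc using hc
    have huniq : ∀ b : B, b • m = 0 → t * b = 0 := fun b hb => hann _ fun x => by
      rw [mul_comm, mul_smul, ← hc x, smul_comm, hb, smul_zero]
    let φ : M →ₗ[B] B :=
      { toFun := fun x => t * c x
        map_add' := fun x y => by
          rw [← mul_add, ← sub_eq_zero, ← mul_sub]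
          exact huniq _ (by rw [sub_smul, add_smul, hc, hc, hc, smul_add, sub_self])
        map_smul' := fun b x => by
          rw [RingHom.id_apply, smul_eq_mul, mul_left_comm b t, ← sub_eq_zero, ← mul_sub]
          exact huniq _ (by rw [sub_smul, mul_smul, hc, hc, smul_comm b t, sub_self]) }
    have hswap : ∀ x y : M, φ x • y = φ y • x := fun x y => by
      show (t * c x) • y = (t * c y) • x
      rw [mul_comm, mul_smul, ← hc y, mul_comm, mul_smul, ← hc x, smul_comm]
    have h1 : φ m = t * t := by
      show t * c m = t * t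
      rw [← sub_eq_zero, ← mul_sub]
      exact huniq _ (by rw [sub_smul, hc, sub_self])
    have hmem : t * t ∈ q := hle (Ideal.subset_span ⟨φ, m, hswap, h1⟩)
    exact ht ((hq.isPrime.mem_or_mem hmem).elim id id)
  let E : Module.Dual B M ⊗[B] M →ₗ[B] B := contractLeft B M
  obtain ⟨z₀, hz₀, hzE⟩ : ∃ z₀, (∀ z, z = E z • z₀) ∧ E z₀ = 1 := by
    let T : Submodule B (Module.Dual B M ⊗[B] M) :=
      Submodule.span B {w | ∃ (φ : M →ₗ[B] B) (m : M), (∀ x y : M, φ x • y = φ y • x) ∧ φ ⊗ₜ[B] m = w}
    have hT : ∀ b ∈ Ideal.span S, ∃ w ∈ T, E w = b := by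
      intro b hb
      induction hb using Submodule.span_induction with
      | mem b hb =>
        obtain ⟨φ, m, hsw, rfl⟩ := hb
        exact ⟨φ ⊗ₜ m, Submodule.subset_span ⟨φ, m, hsw, rfl⟩, contractLeft_apply φ m⟩
      | zero => exact ⟨0, zero_mem _, map_zero _⟩
      | add x y _ _ hx hy =>
        obtain ⟨w, hw, rfl⟩ := hx
        obtain ⟨w', hw', rfl⟩ := hy
        exact ⟨w + w', add_mem hw hw', map_add _ _ _⟩
      | smul r x _ hx =>
        obtain ⟨w, hw, rfl⟩ := hx
        exact ⟨r • w, T.smul_mem r hw, map_smul _ _ _⟩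
    obtain ⟨z₀, hz₀, hzE⟩ := hT 1 (hS ▸ Submodule.mem_top)
    have key : ∀ w ∈ T, ∀ z, E w • z = E z • w := by
      intro w hw
      induction hw using Submodule.span_induction with
      | mem w hw =>
        obtain ⟨φ, m, hsw, rfl⟩ := hw
        intro z
        induction z using TensorProduct.induction_on with
        | zero => simp
        | tmul ψ x =>
          show E (φ ⊗ₜ m) • (ψ ⊗ₜ[B] x) = E (ψ ⊗ₜ x) • (φ ⊗ₜ[B] m)
          rw [contractLeft_apply, contractLeft_apply, ← tmul_smul, hsw m x, tmul_smul, smul_tmul',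
            smul_tmul']
          congr 1
          refine LinearMap.ext fun y => ?_
          show φ x • ψ y = ψ x • φ y
          rw [← map_smul ψ, hsw x y, map_smul ψ, smul_eq_mul, smul_eq_mul, mul_comm]
        | add a b ha hb => rw [smul_add, ha, hb, map_add, add_smul]
      | zero => intro z; simp
      | add a b _ _ ha hb => intro z; rw [map_add, add_smul, ha z, hb z, smul_add]
      | smul r a _ ha => intro z; rw [map_smul, smul_eq_mul, mul_smul, ha z, smul_comm]
    exact ⟨z₀, fun z => by rw [← key z₀ hz₀ z, hzE, one_smul], hzE⟩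
  refine Module.Invertible.right (M := Module.Dual B M)
    (LinearEquiv.ofLinear E (LinearMap.toSpanSingleton B _ z₀) ?_ ?_)
  · refine LinearMap.ext_ring ?_
    simp [hzE]
  · exact LinearMap.ext fun z => (hz₀ z).symm

end GrothLib.Different2
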