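import Mathlib
import Groth.Prelude.Def_QFDual

/-!
# Base change of the different of a finite free algebra
-/

set_option autoImplicit false

universe u

open TensorProduct

namespace GrothLib.Different2

variable {A B A' B' : Type u} [CommRing A] [CommRing B] [CommRing A'] [CommRing B']
  [Algebra A B] [Algebra A A'] [Algebra B B'] [Algebra A' B'] [Algebra A B']
  [IsScalarTower A A' B'] [IsScalarTower A B B'] (hB : Algebra.IsPushout A A' B B')
  [Module.Finite A B] [Module.Free A B]

include hB

theorem bcFin_span (ψ : Disc.Omega A' B') :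
    ψ ∈ Submodule.span B' (Set.range (QFDual.bcFin hB : Disc.Omega A B → Disc.Omega A' B')) := by
  let S := Submodule.span B' (Set.range (QFDual.bcFin hB : Disc.Omega A B → Disc.Omega A' B'))
  suffices h : ∀ f : Module.Dual A' B', (⟨f⟩ : Disc.Omega A' B') ∈ S from h ψ.toLinearMap
  intro f
  induction f using hB.out.dual.inductionOn with
  | zero => exact zero_mem S
  | tmul g => exact Submodule.subset_span ⟨⟨g⟩, rfl⟩
  | smul a g hg =>
    have e : (⟨a • g⟩ : Disc.Omega A' B') = algebraMap A' B' a • ⟨g⟩ := by
      refine Disc.Omega.ext (LinearMap.ext fun x => ?_)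
      show a • g x = g (algebraMap A' B' a * x)
      rw [← Algebra.smul_def, map_smul]
    rw [e]
    exact S.smul_mem _ hg
  | add f g hf hg => exact S.add_mem hf hg

theorem bcFin_trace [Module.Finite A' B'] [Module.Free A' B'] :
    QFDual.bcFin hB (Disc.Omega.trace A B) = Disc.Omega.trace A' B' := by
  classical
  refine Disc.Omega.ext (hB.out.algHom_ext _ _ fun b => ?_)
  show _ = Algebra.trace A' B' ((IsScalarTower.toAlgHom A B B').toLinearMap b)
  refine (QFDual.bcFin_apply_algebraMap hB _ b).trans ?_
  let e := Module.Free.chooseBasis A B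
  show algebraMap A A' (Algebra.trace A B b) = _
  rw [Algebra.trace_eq_matrix_trace e, Algebra.trace_eq_matrix_trace (hB.out.basis e), AddMonoidHom.map_trace]
  refine congrArg Matrix.trace (Matrix.ext fun i j => ?_)
  rw [Matrix.map_apply, Algebra.leftMulMatrix_eq_repr_mul, Algebra.leftMulMatrix_eq_repr_mul]
  have h := hB.out.basis_repr_comp_apply e (b * e j) i
  rw [IsBaseChange.basis_apply]
  show _ = (hB.out.basis e).repr (algebraMap B B' b * algebraMap B B' (e j)) i
  rw [← map_mul]
  exact h.symm

omit [Module.Free A B] [Module.Finite A B] in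
theorem bcFin_smul (b : B) (φ : Disc.Omega A B) :
    QFDual.bcFin hB (b • φ) = algebraMap B B' b • QFDual.bcFin hB φ :=
  LinearMap.map_smulₛₗ _ _ _

theorem map_different_le [Module.Finite A' B'] [Module.Free A' B'] :
    Ideal.map (algebraMap B B') (QFDual.different B (Disc.Omega.trace A B)) ≤
      QFDual.different B' (Disc.Omega.trace A' B') := by
  rw [Ideal.map_le_iff_le_comap]
  intro b hb
  rw [Ideal.mem_comap, QFDual.mem_different_iff]
  intro ψ
  induction bcFin_span hB ψ using Submodule.span_induction with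
  | mem ψ hψ =>
    obtain ⟨φ, rfl⟩ := hψ
    obtain ⟨c, hc⟩ := (QFDual.mem_different_iff B _ b).mp hb φ
    exact ⟨algebraMap B B' c, by rw [← bcFin_trace hB, ← bcFin_smul, ← bcFin_smul, hc]⟩
  | zero => exact ⟨0, by rw [zero_smul, smul_zero]⟩
  | add ψ ψ' _ _ h h' =>
    obtain ⟨c, hc⟩ := h
    obtain ⟨c', hc'⟩ := h'
    exact ⟨c + c', by rw [add_smul, smul_add, hc, hc']⟩
  | smul x ψ _ h =>
    obtain ⟨c, hc⟩ := h
    exact ⟨x * c, by rw [mul_smul, hc, smul_comm]⟩

theorem different_le_map_of_invertible [Module.Finite A' B'] [Module.Free A' B']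
    [Module.Invertible B (Disc.Omega A B)] :
    QFDual.different B' (Disc.Omega.trace A' B') ≤
      Ideal.map (algebraMap B B') (QFDual.different B (Disc.Omega.trace A B)) := by
  intro r hr
  let I := Ideal.map (algebraMap B B') (QFDual.different B (Disc.Omega.trace A B))
  let W := Disc.Omega A B
  have hswap : ∀ (φ : Module.Dual B W) (m n : W), φ m • n = φ n • m := by
    intro φ m n
    have h := congrArg (fun z => TensorProduct.lid B W (φ.rTensor W z))
      (Module.Invertible.tmul_comm (R := B) (M := W) (m₁ := m) (m₂ := n))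
    simpa using h
  let J : Ideal B := Submodule.span B (Set.range fun q : Module.Dual B W × W => q.1 q.2)
  have hJ : (1 : B) ∈ J := by
    obtain ⟨z, hz⟩ := (Module.Invertible.linearEquiv B W).surjective 1
    rw [← hz]
    clear hz
    induction z using TensorProduct.induction_on with
    | zero => rw [map_zero]; exact zero_mem _
    | tmul φ m => exact Submodule.subset_span ⟨(φ, m), rfl⟩
    | add x y hx hy => rw [map_add]; exact add_mem hx hy
  suffices h : ∀ b ∈ J, r * algebraMap B B' b ∈ I by simpa using h 1 hJ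
  intro b hb
  induction hb using Submodule.span_induction with
  | mem b hb =>
    obtain ⟨⟨φ, m⟩, rfl⟩ := hb
    obtain ⟨c, hc⟩ := (QFDual.mem_different_iff B' _ r).mp hr (QFDual.bcFin hB m)
    have hτ : φ (Disc.Omega.trace A B) ∈ QFDual.different B (Disc.Omega.trace A B) :=
      (QFDual.mem_different_iff B _ _).mpr fun n => ⟨φ n, hswap φ n _⟩
    suffices e : r * algebraMap B B' (φ m) = c * algebraMap B B' (φ (Disc.Omega.trace A B)) by
      show r * algebraMap B B' (φ m) ∈ I
      rw [e]
      exact Ideal.mul_mem_left _ _ (Ideal.mem_map_of_mem _ hτ)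
    have key : ∀ ψ : Disc.Omega A' B', (c * algebraMap B B' (φ (Disc.Omega.trace A B))) • ψ =
        (r * algebraMap B B' (φ m)) • ψ := by
      intro ψ
      induction bcFin_span hB ψ using Submodule.span_induction with
      | mem ψ hψ =>
        obtain ⟨n, rfl⟩ := hψ
        rw [mul_smul, mul_smul, ← bcFin_smul, ← bcFin_smul, hswap φ _ n, hswap φ m n, bcFin_smul,
          bcFin_smul, smul_comm c, smul_comm r, bcFin_trace hB, hc]
      | zero => rw [smul_zero, smul_zero]
      | add x y _ _ hx hy => rw [smul_add, smul_add, hx, hy]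
      | smul x ψ _ h => rw [smul_comm, h, smul_comm]
    rw [← sub_eq_zero]
    refine (Module.Free.chooseBasis A' B').ext_elem fun i => ?_
    have h2 := congrArg (fun z : Disc.Omega A' B' => z.toLinearMap 1)
      (key ⟨(Module.Free.chooseBasis A' B').coord i⟩)
    simp only [Disc.Omega.smul_toLinearMap_apply, mul_one] at h2
    rw [map_zero]
    simpa [sub_eq_zero] using h2.symm
  | zero => rw [map_zero, mul_zero]; exact zero_mem _
  | add x y _ _ hx hy => rw [map_add, mul_add]; exact add_mem hx hy
  | smul x y _ hy =>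
    rw [smul_eq_mul, map_mul, mul_left_comm]
    exact Ideal.mul_mem_left _ _ hy

theorem finite_omega : Module.Finite B (Disc.Omega A B) := by
  clear hB
  classical
  let e := Module.Free.chooseBasis A B
  refine ⟨⟨Finset.univ.image fun i => (⟨e.coord i⟩ : Disc.Omega A B), eq_top_iff.mpr fun φ _ => ?_⟩⟩
  have h : φ = ∑ i, algebraMap A B (φ.toLinearMap (e i)) • (⟨e.coord i⟩ : Disc.Omega A B) := by
    apply Disc.Omega.toLinearMap_injective
    refine e.ext fun j => ?_
    have hs : (∑ i, algebraMap A B (φ.toLinearMap (e i)) • (⟨e.coord i⟩ : Disc.Omega A B)).toLinearMap (e j) =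
        ∑ i, (algebraMap A B (φ.toLinearMap (e i)) • (⟨e.coord i⟩ : Disc.Omega A B)).toLinearMap (e j) :=
      map_sum (AddMonoidHom.mk' (fun ψ : Disc.Omega A B => ψ.toLinearMap (e j)) fun _ _ => rfl) _ _
    rw [hs]
    simp [← Algebra.smul_def, Finsupp.single_apply]
  rw [h]
  exact Submodule.sum_mem _ fun i _ =>
    Submodule.smul_mem _ _ (Submodule.subset_span (by simp))

theorem different_le_radical [Module.Finite A' B'] [Module.Free A' B'] :
    QFDual.different B' (Disc.Omega.trace A' B') ≤
      (Ideal.map (algebraMap B B') (QFDual.different B (Disc.Omega.trace A B))).radical := by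
  classical
  haveI := finite_omega hB
  intro r hr
  rw [Ideal.radical_eq_sInf, Ideal.mem_sInf]
  rintro P ⟨hIP, hP⟩
  haveI := hP
  by_contra hrP
  let q : Ideal B := Ideal.comap (algebraMap B B') P
  let τ := Disc.Omega.trace A B
  let C := Disc.Omega A B ⧸ Submodule.span B {τ}
  have hsupp : (⟨q, inferInstance⟩ : PrimeSpectrum B) ∈ Module.support B C := by
    rw [Module.support_eq_zeroLocus, PrimeSpectrum.mem_zeroLocus]
    intro b hb
    refine hIP (Ideal.mem_map_of_mem _ ((QFDual.mem_different_iff B _ b).mpr fun φ => ?_))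
    have h := Module.mem_annihilator.mp hb (Submodule.Quotient.mk φ)
    rw [← Submodule.Quotient.mk_smul, Submodule.Quotient.mk_eq_zero, Submodule.mem_span_singleton] at h
    exact h
  haveI : Nontrivial (q.ResidueField ⊗[B] C) :=
    (Module.mem_support_iff_nontrivial_residueField_tensorProduct (⟨q, inferInstance⟩ : PrimeSpectrum B)).mp hsupp
  obtain ⟨z, hz⟩ := exists_ne (0 : q.ResidueField ⊗[B] C)
  obtain ⟨g, hg⟩ := Module.Projective.exists_dual_ne_zero q.ResidueField hz
  let ℓ : Disc.Omega A B →ₗ[B] q.ResidueField :=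
    ((g.restrictScalars B).comp (TensorProduct.mk B q.ResidueField C 1)).comp (Submodule.mkQ _)
  have hℓτ : ℓ τ = 0 := by
    show g (1 ⊗ₜ[B] Submodule.Quotient.mk τ) = 0
    rw [(Submodule.Quotient.mk_eq_zero _).mpr (Submodule.mem_span_singleton_self τ), TensorProduct.tmul_zero, map_zero]
  obtain ⟨m, hm⟩ : ∃ m, ℓ m ≠ 0 := by
    by_contra! hcon
    refine hg ?_
    have hall : ∀ w : q.ResidueField ⊗[B] C, g w = 0 := by
      intro w
      induction w using TensorProduct.induction_on with
      | zero => exact map_zero g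
      | tmul t c =>
        obtain ⟨n, rfl⟩ := Submodule.Quotient.mk_surjective _ c
        rw [show t ⊗ₜ[B] (Submodule.Quotient.mk n : C) = t • ((1 : q.ResidueField) ⊗ₜ[B] (Submodule.Quotient.mk n : C))
          by rw [TensorProduct.smul_tmul', smul_eq_mul, mul_one], map_smul]
        exact (congrArg (t • ·) (hcon n)).trans (smul_zero t)
      | add x y hx hy => rw [map_add, hx, hy, add_zero]
    exact hall z
  let ρ : q.ResidueField →+* P.ResidueField := Ideal.ResidueField.map q P (algebraMap B B') rfl
  have hρ : ∀ b : B, ρ (algebraMap B q.ResidueField b) = algebraMap B' P.ResidueField (algebraMap B B' b) :=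
    fun b => Ideal.ResidueField.map_algebraMap q P (algebraMap B B') rfl b
  let ℓ₀ : Module.Dual A B →ₗ[A] P.ResidueField :=
    { toFun := fun f => ρ (ℓ ⟨f⟩)
      map_add' := fun f f' => by rw [← map_add ρ, ← map_add ℓ]; rfl
      map_smul' := fun a f => by
        have e : (⟨a • f⟩ : Disc.Omega A B) = algebraMap A B a • ⟨f⟩ := by
          refine Disc.Omega.ext (LinearMap.ext fun x => ?_)
          show a • f x = f (algebraMap A B a * x)
          rw [← Algebra.smul_def, map_smul]
        rw [e, map_smul, Algebra.smul_def, map_mul, hρ, RingHom.id_apply, ← IsScalarTower.algebraMap_apply A B B',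
          ← IsScalarTower.algebraMap_apply A B' P.ResidueField, ← Algebra.smul_def] }
  let L := hB.out.dual.lift ℓ₀
  have hL : ∀ n, L (QFDual.bcFin hB n).toLinearMap = ρ (ℓ n) := fun n => hB.out.dual.lift_eq ℓ₀ n.toLinearMap
  have hsemi : ∀ (ψ : Module.Dual A' B') (x : B'),
      L (x • (⟨ψ⟩ : Disc.Omega A' B')).toLinearMap = algebraMap B' P.ResidueField x * L ψ := by
    intro ψ
    induction ψ using hB.out.dual.inductionOn with
    | zero =>
      intro x
      rw [map_zero, mul_zero, show (x • (⟨0⟩ : Disc.Omega A' B')).toLinearMap = 0 from LinearMap.zero_comp _, map_zero]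
    | tmul f =>
      intro x
      induction x using hB.out.inductionOn with
      | zero => simp
      | tmul b =>
        show L (algebraMap B B' b • QFDual.bcFin hB ⟨f⟩).toLinearMap = algebraMap B' P.ResidueField (algebraMap B B' b) * _
        rw [← bcFin_smul, hL, map_smul, Algebra.smul_def, map_mul, hρ]
        exact congrArg _ (hL ⟨f⟩).symm
      | smul a x hx =>
        rw [show (a • x) • (⟨hB.out.toDual f⟩ : Disc.Omega A' B') = algebraMap A' B' a • (x • (⟨hB.out.toDual f⟩ : Disc.Omega A' B')) by
          rw [← mul_smul, Algebra.smul_def]]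
        rw [show (algebraMap A' B' a • (x • (⟨hB.out.toDual f⟩ : Disc.Omega A' B'))).toLinearMap =
          a • (x • (⟨hB.out.toDual f⟩ : Disc.Omega A' B')).toLinearMap from LinearMap.ext fun y => by
          show (x • (⟨hB.out.toDual f⟩ : Disc.Omega A' B')).toLinearMap (algebraMap A' B' a * y) =
            a • (x • (⟨hB.out.toDual f⟩ : Disc.Omega A' B')).toLinearMap y
          rw [← Algebra.smul_def, map_smul]]
        rw [map_smul, hx, Algebra.smul_def a x, map_mul, ← IsScalarTower.algebraMap_apply A' B' P.ResidueField,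
          mul_assoc]
        exact Algebra.smul_def a _
      | add x y hx hy => rw [add_smul, Disc.Omega.add_toLinearMap, map_add, hx, hy, map_add, add_mul]
    | smul a ψ hψ =>
      intro x
      rw [show (x • (⟨a • ψ⟩ : Disc.Omega A' B')).toLinearMap = a • (x • (⟨ψ⟩ : Disc.Omega A' B')).toLinearMap from rfl,
        map_smul, hψ, map_smul]
      rw [Algebra.smul_def, Algebra.smul_def]; ring
    | add ψ ψ' h h' =>
      intro x
      rw [show (x • (⟨ψ + ψ'⟩ : Disc.Omega A' B')).toLinearMap = (x • (⟨ψ⟩ : Disc.Omega A' B')).toLinearMap +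
        (x • (⟨ψ'⟩ : Disc.Omega A' B')).toLinearMap from rfl, map_add, h, h', map_add, mul_add]
  obtain ⟨c, hc⟩ := (QFDual.mem_different_iff B' _ r).mp hr (QFDual.bcFin hB m)
  have h1 := congrArg (fun ψ : Disc.Omega A' B' => L ψ.toLinearMap) hc
  rw [← bcFin_trace hB] at h1
  simp only [hsemi, hL] at h1
  rw [hℓτ, map_zero, mul_zero] at h1
  rcases mul_eq_zero.mp h1.symm with h | h
  · exact hrP (Ideal.algebraMap_residueField_eq_zero.mp h)
  · exact hm ((map_eq_zero ρ).mp h)

theorem different_le_map_of_flat [Module.Finite A' B'] [Module.Free A' B'] [Module.Flat A A'] :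
    QFDual.different B' (Disc.Omega.trace A' B') ≤
      Ideal.map (algebraMap B B') (QFDual.different B (Disc.Omega.trace A B)) := by
  classical
  intro r hr
  let e := Module.Free.chooseBasis A B
  let mulW : Disc.Omega A B → (B →ₗ[A] Module.Dual A B) := fun φ =>
    { toFun := fun b => (b • φ).toLinearMap
      map_add' := fun b b' => by rw [add_smul]; rfl
      map_smul' := fun a b => LinearMap.ext fun x => by
        show φ.toLinearMap (a • b * x) = a • φ.toLinearMap (b * x)
        rw [smul_mul_assoc, map_smul] }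
  let S := LinearMap.range (mulW (Disc.Omega.trace A B))
  let Ψ : B →ₗ[A] (Module.Free.ChooseBasisIndex A B → Module.Dual A B ⧸ S) :=
    LinearMap.pi fun i => S.mkQ.comp (mulW ⟨e.coord i⟩)
  have hker : ∀ b ∈ LinearMap.ker Ψ, b ∈ QFDual.different B (Disc.Omega.trace A B) := by
    intro b hb
    rw [QFDual.mem_different_iff]
    have hb' : ∀ i, ∃ c, c • Disc.Omega.trace A B = b • (⟨e.coord i⟩ : Disc.Omega A B) := fun i => by
      obtain ⟨c, hc⟩ := (Submodule.Quotient.mk_eq_zero S).mp (congrFun hb i)
      exact ⟨c, Disc.Omega.ext hc⟩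
    choose c hc using hb'
    intro φ
    refine ⟨∑ i, algebraMap A B (φ.toLinearMap (e i)) * c i, ?_⟩
    rw [Finset.sum_smul]
    simp only [mul_smul, hc, smul_comm _ b, ← Finset.smul_sum]
    congr 1
    apply Disc.Omega.toLinearMap_injective
    refine e.ext fun j => ?_
    have hs : (∑ i, algebraMap A B (φ.toLinearMap (e i)) • (⟨e.coord i⟩ : Disc.Omega A B)).toLinearMap (e j) =
        ∑ i, (algebraMap A B (φ.toLinearMap (e i)) • (⟨e.coord i⟩ : Disc.Omega A B)).toLinearMap (e j) :=
      map_sum (AddMonoidHom.mk' (fun ψ : Disc.Omega A B => ψ.toLinearMap (e j)) fun _ _ => rfl) _ _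
    rw [hs]
    simp [← Algebra.smul_def, Finsupp.single_apply]
  let eB := hB.out.equiv
  let eW := hB.out.dual.equiv
  have key : ∀ (φ : Disc.Omega A B) (z : A' ⊗[A] B),
      eW ((mulW φ).lTensor A' z) = (eB z • QFDual.bcFin hB φ).toLinearMap := by
    intro φ z
    induction z using TensorProduct.induction_on with
    | zero => simp
    | tmul a b =>
      rw [LinearMap.lTensor_tmul, IsBaseChange.equiv_tmul, IsBaseChange.equiv_tmul]
      show a • (QFDual.bcFin hB (b • φ)).toLinearMap = _
      rw [bcFin_smul]
      refine LinearMap.ext fun y => ?_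
      show a • (QFDual.bcFin hB φ).toLinearMap (algebraMap B B' b * y) =
        (QFDual.bcFin hB φ).toLinearMap (a • algebraMap B B' b * y)
      rw [smul_mul_assoc, map_smul]
    | add x y hx hy => rw [map_add, map_add, hx, hy, map_add, add_smul]; rfl
  let z := eB.symm r
  have hz : Ψ.lTensor A' z = 0 := by
    apply (TensorProduct.piRight A A A' _).injective
    funext i
    have e1 : ∀ z : A' ⊗[A] B, TensorProduct.piRight A A A' _ (Ψ.lTensor A' z) i =
        (S.mkQ.comp (mulW ⟨e.coord i⟩)).lTensor A' z := fun z => by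
      induction z using TensorProduct.induction_on with
      | zero => simp
      | tmul a b => simp [Ψ]
      | add x y hx hy => simp only [map_add, Pi.add_apply, hx, hy]
    rw [e1, map_zero, Pi.zero_apply]
    obtain ⟨c, hc⟩ := (QFDual.mem_different_iff B' _ r).mp hr (QFDual.bcFin hB ⟨e.coord i⟩)
    have h2 : (mulW ⟨e.coord i⟩).lTensor A' z = (mulW (Disc.Omega.trace A B)).lTensor A' (eB.symm c) := by
      apply eW.injective
      rw [key, key, bcFin_trace hB, LinearEquiv.apply_symm_apply, LinearEquiv.apply_symm_apply, hc]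
    rw [LinearMap.lTensor_comp, LinearMap.comp_apply, h2, ← LinearMap.comp_apply, ← LinearMap.lTensor_comp,
      show S.mkQ.comp (mulW (Disc.Omega.trace A B)) = 0 from LinearMap.ext fun b =>
        (Submodule.Quotient.mk_eq_zero S).mpr ⟨b, rfl⟩, LinearMap.lTensor_zero, LinearMap.zero_apply]
  obtain ⟨w, hw⟩ := (Module.Flat.lTensor_exact A' Ψ.exact_subtype_ker_map z).mp hz
  rw [show r = eB z from (eB.apply_symm_apply r).symm, ← hw]
  clear hw
  induction w using TensorProduct.induction_on with
  | zero => simp
  | tmul a b =>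
    rw [LinearMap.lTensor_tmul, IsBaseChange.equiv_tmul, Algebra.smul_def]
    exact Ideal.mul_mem_left _ _ (Ideal.mem_map_of_mem _ (hker b b.2))
  | add x y hx hy => rw [map_add, map_add]; exact add_mem hx hy

end GrothLib.Different2
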