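import Mathlib
import Groth.Prelude.Def_QFDual
import Groth.Agent.Lib.TraceEtale.Basic

/-!
# The Dedekind complementary module
-/

set_option autoImplicit false

universe u

namespace GrothLib.Different2

theorem trace_pairing_bijective (K L : Type u) [CommRing K] [CommRing L] [Algebra K L]
    [Algebra.FormallyUnramified K L] [Module.Free K L] [Module.Finite K L] :
    Function.Bijective (Algebra.traceForm K L : L → L →ₗ[K] K) := by
  classical
  let e := Module.Free.chooseBasis K L
  have hu : IsUnit (Algebra.traceMatrix K e) :=
    (Matrix.isUnit_iff_isUnit_det _).mpr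
      ((GrothLib.TraceEtale.formallyUnramified_iff_isUnit_det e).mp inferInstance)
  have key : ∀ (x : L) (j), Algebra.traceForm K L x (e j) =
      (Algebra.traceMatrix K e).mulVec (e.repr x) j := by
    intro x j
    have hx : ∑ i, e.repr x i • e i = x := e.sum_repr x
    conv_lhs => rw [← hx]
    simp only [map_sum, LinearMap.sum_apply, map_smul, LinearMap.smul_apply, Matrix.mulVec,
      dotProduct, Algebra.traceMatrix_apply, Algebra.traceForm_apply, smul_eq_mul]
    exact Finset.sum_congr rfl fun i _ => by rw [mul_comm (e j) (e i), mul_comm]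
  have hbij : Function.Bijective (Algebra.traceMatrix K e).mulVec :=
    ⟨Matrix.mulVec_injective_of_isUnit hu, Matrix.mulVec_surjective_iff_isUnit.mpr hu⟩
  refine ⟨fun x y h => e.repr.injective (DFunLike.coe_injective (hbij.1 (funext fun j => ?_))), fun φ => ?_⟩
  · rw [← key, ← key, h]
  · obtain ⟨c, hc⟩ := hbij.2 fun j => φ (e j)
    refine ⟨e.equivFun.symm c, e.ext fun j => ?_⟩
    have hr : (e.repr (e.equivFun.symm c) : _ → K) = c := e.equivFun.apply_symm_apply c
    rw [key, hr, hc]

variable {A K B L : Type u} [CommRing A] [CommRing K] [CommRing B] [CommRing L] [Algebra A K]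
  [Algebra A B] [Algebra B L] [Algebra K L] [Algebra A L] [IsScalarTower A K L] [IsScalarTower A B L]
  (h : QFDual.IsDedekindDefined A K B L)

include h

theorem algebraMap_injective_left : Function.Injective (algebraMap A K) :=
  haveI := h.isFractionRing
  IsFractionRing.injective A K

theorem algebraMap_injective_right : Function.Injective (algebraMap B L) :=
  haveI := h.isLocalization
  IsLocalization.injective L (M := Algebra.algebraMapSubmonoid B (nonZeroDivisors A))
    (Submonoid.map_le_iff_le_comap.mpr h.map_nonZeroDivisors)

theorem isBaseChange : IsBaseChange K (IsScalarTower.toAlgHom A B L).toLinearMap :=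
  haveI := h.isFractionRing
  haveI : IsLocalization (nonZeroDivisors A) K := h.isFractionRing
  haveI := h.isLocalization
  (Algebra.isPushout_of_isLocalization (nonZeroDivisors A) K B L).symm.out

theorem one_mem_complementary_of_flat [Module.Flat A B] :
    (1 : L) ∈ QFDual.complementary A K B L := by
  classical
  intro b
  rw [one_mul]
  haveI := h.isNoetherianRing
  haveI := h.finite
  haveI := h.free
  haveI := h.finiteKL
  haveI : Module.Projective A B :=
    haveI := Module.finitePresentation_of_finite A B
    Module.Flat.projective_of_finitePresentation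
  obtain ⟨n, f, g, -, -, hfg⟩ := Module.Finite.exists_comp_eq_id_of_projective A B
  let hbc := isBaseChange h
  let G : Fin n → L →ₗ[K] K := fun i => hbc.lift ((Algebra.linearMap A K).comp ((LinearMap.proj i).comp g))
  let y : Fin n → L := fun i => algebraMap B L (b * f (Pi.single i 1))
  have hl : Algebra.lmul K L (algebraMap B L b) = ∑ i, (G i).smulRight (y i) := by
    refine hbc.algHom_ext _ _ fun x => ?_
    show algebraMap B L b * algebraMap B L x =
      (∑ i, (G i).smulRight (y i)) ((IsScalarTower.toAlgHom A B L).toLinearMap x)
    rw [LinearMap.sum_apply]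
    simp only [LinearMap.smulRight_apply, G, IsBaseChange.lift_eq, LinearMap.coe_comp, Function.comp_apply,
      Algebra.linearMap_apply, LinearMap.proj_apply, algebraMap_smul, y]
    have hx : x = ∑ i, g x i • f (Pi.single i 1) := by
      conv_lhs => rw [show x = f (g x) from (LinearMap.congr_fun hfg x).symm, pi_eq_sum_univ' (g x)]
      simp
    conv_lhs => rw [← map_mul, hx, Finset.mul_sum, map_sum]
    refine Finset.sum_congr rfl fun i _ => ?_
    rw [mul_smul_comm, Algebra.smul_def, Algebra.smul_def, map_mul,
      ← IsScalarTower.algebraMap_apply A B L]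
  rw [Algebra.trace_apply, hl, map_sum]
  refine Subring.sum_mem _ fun i _ => ?_
  rw [LinearMap.trace_smulRight]
  refine ⟨g (b * f (Pi.single i 1)) i, ?_⟩
  show _ = G i ((IsScalarTower.toAlgHom A B L).toLinearMap (b * f (Pi.single i 1)))
  simp only [G, IsBaseChange.lift_eq]
  rfl

theorem exists_equiv : ∃ e : QFDual.complementary A K B L ≃ₗ[B] Disc.Omega A B,
    ∀ (x : QFDual.complementary A K B L) (b : B),
      algebraMap A K ((e x).toLinearMap b) = Algebra.trace K L ((x : L) * algebraMap B L b) := by
  classical
  haveI := h.free
  haveI := h.finiteKL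
  haveI := h.etale
  let hbc := isBaseChange h
  have hinj := algebraMap_injective_left h
  choose v hv using fun (x : QFDual.complementary A K B L) (b : B) => x.2 b
  let F : QFDual.complementary A K B L →ₗ[B] Disc.Omega A B :=
    { toFun := fun x => ⟨{
        toFun := v x
        map_add' := fun b b' => hinj (by rw [map_add, hv, hv, hv, map_add, mul_add, map_add])
        map_smul' := fun a b => hinj (by
          rw [RingHom.id_apply, smul_eq_mul, map_mul, hv, hv, Algebra.smul_def, map_mul (algebraMap B L),
            ← IsScalarTower.algebraMap_apply A B L, IsScalarTower.algebraMap_apply A K L, mul_left_comm,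
            ← Algebra.smul_def, map_smul, smul_eq_mul]) }⟩
      map_add' := fun x y => Disc.Omega.ext (LinearMap.ext fun b => hinj (by
        show algebraMap A K (v (x + y) b) = algebraMap A K (v x b + v y b)
        rw [map_add, hv, hv, hv, Submodule.coe_add, add_mul, map_add]))
      map_smul' := fun c x => Disc.Omega.ext (LinearMap.ext fun b => hinj (by
        show algebraMap A K (v (c • x) b) = algebraMap A K (v x (c * b))
        rw [hv, hv, Submodule.coe_smul, Algebra.smul_def, map_mul (algebraMap B L), mul_assoc, mul_left_comm])) }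
  refine ⟨LinearEquiv.ofBijective F ⟨fun x x' hxx => Subtype.ext ?_, fun φ => ?_⟩, fun x b => hv x b⟩
  · refine (trace_pairing_bijective K L).1 (hbc.algHom_ext _ _ fun b => ?_)
    have h' : v x b = v x' b := congrArg (fun ψ : Disc.Omega A B => ψ.toLinearMap b) hxx
    show Algebra.trace K L ((x : L) * algebraMap B L b) = Algebra.trace K L ((x' : L) * algebraMap B L b)
    rw [← hv, ← hv, h']
  · obtain ⟨x, hx⟩ := (trace_pairing_bijective K L).2 (hbc.lift ((Algebra.linearMap A K).comp φ.toLinearMap))
    have hxb : ∀ b, algebraMap A K (φ.toLinearMap b) = Algebra.trace K L (x * algebraMap B L b) := fun b => by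
      rw [← Algebra.traceForm_apply, hx]
      show _ = hbc.lift _ ((IsScalarTower.toAlgHom A B L).toLinearMap b)
      rw [IsBaseChange.lift_eq]
      rfl
    refine ⟨⟨x, fun b => ⟨_, hxb b⟩⟩, Disc.Omega.ext (LinearMap.ext fun b => hinj ?_)⟩
    show algebraMap A K (v _ b) = _
    rw [hv, hxb]

theorem dedekindDifferent_eq [Module.Free A B] :
    haveI := h.finite
    QFDual.dedekindDifferent A K B L =
      Submodule.map (Algebra.linearMap B L) (QFDual.different B (Disc.Omega.trace A B)) := by
  haveI := h.finite
  haveI : IsLocalization (nonZeroDivisors A) K := h.isFractionRing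
  haveI := h.isLocalization
  obtain ⟨e, he⟩ := exists_equiv h
  let one' : QFDual.complementary A K B L := ⟨1, one_mem_complementary_of_flat h⟩
  have hone : e one' = Disc.Omega.trace A B := Disc.Omega.ext (LinearMap.ext fun b =>
    algebraMap_injective_left h (by
      rw [he, one_mul]
      exact Algebra.trace_localization A (nonZeroDivisors A) b))
  ext x
  constructor
  · intro hx
    obtain ⟨b, hb⟩ := hx 1 one'.2
    rw [mul_one] at hb
    subst hb
    refine ⟨b, (QFDual.mem_different_iff B _ b).mpr fun φ => ?_, rfl⟩
    obtain ⟨c, hc⟩ := hx _ (e.symm φ).2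
    refine ⟨c, ?_⟩
    rw [← hone, ← map_smul, show c • one' = b • e.symm φ from Subtype.ext ?_, map_smul, e.apply_symm_apply]
    show c • (1 : L) = b • ((e.symm φ : QFDual.complementary A K B L) : L)
    rw [Algebra.smul_def, Algebra.smul_def, mul_one, hc]
  · rintro ⟨b, hb, rfl⟩ y hy
    obtain ⟨c, hc⟩ := (QFDual.mem_different_iff B _ b).mp hb (e ⟨y, hy⟩)
    refine ⟨c, ?_⟩
    rw [← hone, ← map_smul, ← map_smul] at hc
    have h2 := congrArg Subtype.val (e.injective hc)
    simpa [Algebra.smul_def, one'] using h2

end GrothLib.Different2
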