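import Mathlib
import Groth.Prelude.Def_Disc
import Groth.Agent.Lib.GorFlat.Artinian

/-!
# Finite algebras over a field with cyclic dual are the Gorenstein ones
-/

set_option autoImplicit false

universe u

open IsLocalRing

namespace GrothLib.Different2

/-- The socle at `m` is principal. -/
def SocAt {F : Type u} [CommRing F] (m : Ideal F) : Prop :=
  ∃ v : F, (∀ a ∈ m, a * v = 0) ∧ v ≠ 0 ∧ ∀ s : F, (∀ a ∈ m, a * s = 0) → ∃ r, s = r * v

variable {k F : Type u} [Field k] [CommRing F] [Algebra k F] [Module.Finite k F]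

include k in
theorem exists_socle_ne_zero (m : Ideal F) [hm : m.IsMaximal] :
    ∃ v : F, (∀ a ∈ m, a * v = 0) ∧ v ≠ 0 := by
  haveI : IsArtinianRing F := IsArtinianRing.of_finite k F
  have hmin : m ∈ (Module.annihilator F F).minimalPrimes := by
    rw [Module.annihilator_eq_bot.mpr inferInstance]
    exact ⟨⟨hm.isPrime, bot_le⟩, fun q hq hqm => by
      haveI := hq.1
      exact ((IsArtinianRing.isMaximal_of_isPrime q).eq_of_le hm.ne_top hqm).ge⟩
  obtain ⟨-, v, hv⟩ := isAssociatedPrime_iff.1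
    (Module.associatedPrimes.minimalPrimes_annihilator_subset_associatedPrimes F F hmin)
  refine ⟨v, fun a ha => ?_, fun h0 => hm.ne_top ?_⟩
  · rw [hv, Submodule.mem_colon_singleton, Submodule.mem_bot, smul_eq_mul] at ha
    exact ha
  · rw [hv, h0, Ideal.eq_top_iff_one, Submodule.mem_colon_singleton, smul_zero]
    exact zero_mem _

omit [Module.Finite k F] in
theorem eq_zero_of_mul_eq_zero {m : Ideal F} (hm : m.IsMaximal) {s t : F}
    (hs : ∀ a ∈ m, a * s = 0) (ht : t ∉ m) (hts : t * s = 0) : s = 0 := by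
  obtain ⟨x, i, hi, hx⟩ := hm.exists_inv ht
  calc s = (x * t + i) * s := by rw [hx, one_mul]
    _ = 0 := by rw [add_mul, mul_assoc, hts, mul_zero, hs i hi, add_zero]

theorem nonempty_omega_equiv_of_socAt (h : ∀ m : Ideal F, m.IsMaximal → SocAt m) :
    Nonempty (F ≃ₗ[F] Disc.Omega k F) := by
  classical
  haveI : IsArtinianRing F := IsArtinianRing.of_finite k F
  haveI : Fintype (MaximalSpectrum F) := Fintype.ofFinite _
  choose v hv hv0 hvgen using fun m : MaximalSpectrum F => h m.asIdeal m.isMaximal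
  have hli : LinearIndependent k v := by
    rw [Fintype.linearIndependent_iff]
    intro c hc m
    by_contra hcm
    have hsep : ∀ m' : MaximalSpectrum F, m' ≠ m → ∃ x ∈ m'.asIdeal, x ∉ m.asIdeal := fun m' hne =>
      SetLike.not_le_iff_exists.1 fun hle => hne (MaximalSpectrum.ext (m'.isMaximal.eq_of_le m.isMaximal.ne_top hle))
    choose x hx hx' using hsep
    let e := ∏ m' : {m' : MaximalSpectrum F // m' ≠ m}, x m'.1 m'.2
    have hem : e ∉ m.asIdeal := fun he => by
      obtain ⟨i, -, hi⟩ := m.isMaximal.isPrime.prod_mem_iff.1 he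
      exact hx' i.1 i.2 hi
    have hzero : ∀ m', m' ≠ m → e * v m' = 0 := fun m' hne => by
      refine hv m' e ?_
      exact Ideal.mem_of_dvd _ (Finset.dvd_prod_of_mem (fun i : {m' : MaximalSpectrum F // m' ≠ m} => x i.1 i.2)
        (Finset.mem_univ (⟨m', hne⟩ : {m' : MaximalSpectrum F // m' ≠ m}))) (hx m' hne)
    have h1 : e * ∑ i, c i • v i = c m • (e * v m) := by
      rw [Finset.mul_sum, Finset.sum_eq_single m (fun i _ hi => by rw [mul_smul_comm, hzero i hi, smul_zero])
        (fun hh => absurd (Finset.mem_univ m) hh), mul_smul_comm]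
    rw [hc, mul_zero] at h1
    exact hv0 m (eq_zero_of_mul_eq_zero m.isMaximal (hv m) hem ((smul_eq_zero.1 h1.symm).resolve_left hcm))
  obtain ⟨ε, hε⟩ : ∃ ε : F →ₗ[k] k, ∀ m, ε (v m) = 1 := by
    obtain ⟨ε, hε⟩ := LinearMap.exists_extend
      ((Module.Basis.span hli).constr k fun _ => (1 : k))
    refine ⟨ε, fun m => ?_⟩
    have h2 := LinearMap.congr_fun hε ((Module.Basis.span hli) m)
    rw [LinearMap.comp_apply, Module.Basis.constr_basis, Submodule.subtype_apply, Module.Basis.span_apply] at h2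
    exact h2
  let Φ : F →ₗ[F] Disc.Omega k F := LinearMap.toSpanSingleton F _ ⟨ε⟩
  have hinj : Function.Injective Φ := by
    rw [← LinearMap.ker_eq_bot]
    by_contra hne
    haveI : Nontrivial (LinearMap.ker Φ) := (Submodule.nontrivial_iff_ne_bot).2 hne
    obtain ⟨P, hP⟩ := associatedPrimes.nonempty F (LinearMap.ker Φ)
    obtain ⟨hprime, s, hs⟩ := isAssociatedPrime_iff.1 hP
    haveI := hprime
    let m : MaximalSpectrum F := ⟨P, IsArtinianRing.isMaximal_of_isPrime P⟩
    have hkill : ∀ a ∈ m.asIdeal, a * (s : F) = 0 := fun a ha => by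
      change a ∈ P at ha
      rw [hs, Submodule.mem_colon_singleton, Submodule.mem_bot] at ha
      exact congrArg Subtype.val ha
    have hs0 : (s : F) ≠ 0 := fun h0 => hprime.ne_top (by
      rw [hs, Ideal.eq_top_iff_one, Submodule.mem_colon_singleton, one_smul, Submodule.mem_bot]
      exact Subtype.ext h0)
    obtain ⟨r, hr⟩ := hvgen m s hkill
    have hrm : r ∉ m.asIdeal := fun hr' => hs0 (hr.trans (hv m r hr'))
    obtain ⟨y, i, hi, hy⟩ := m.isMaximal.exists_inv hrm
    have hvs : v m = y * s := by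
      calc v m = (y * r + i) * v m := by rw [hy, one_mul]
        _ = y * s := by rw [add_mul, hv m i hi, add_zero, hr, mul_assoc]
    have h3 : ε ((s : F) * y) = 0 :=
      congrArg (fun l : Disc.Omega k F => l.toLinearMap y) (LinearMap.mem_ker.1 s.2)
    rw [mul_comm, ← hvs, hε] at h3
    exact one_ne_zero h3
  let G : F →ₗ[k] (F →ₗ[k] k) :=
    { toFun := fun b => (Φ b).toLinearMap
      map_add' := fun a b => by rw [map_add]; rfl
      map_smul' := fun r b => by
        rw [RingHom.id_apply]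
        refine LinearMap.ext fun x => ?_
        show ε ((r • b) * x) = r • ε (b * x)
        rw [smul_mul_assoc, map_smul] }
  have hG : Function.Injective G := fun a b h => hinj (Disc.Omega.ext h)
  have hsurj : Function.Surjective G :=
    (LinearMap.injective_iff_surjective_of_finrank_eq_finrank Subspace.dual_finrank_eq.symm).1 hG
  exact ⟨LinearEquiv.ofBijective Φ ⟨hinj, fun l =>
    (hsurj l.toLinearMap).imp fun b hb => Disc.Omega.ext hb⟩⟩

theorem socAt_of_omega_equiv (e : F ≃ₗ[F] Disc.Omega k F) (m : Ideal F) [hm : m.IsMaximal] :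
    SocAt m := by
  classical
  obtain ⟨v, hv, hv0⟩ := exists_socle_ne_zero (k := k) m
  refine ⟨v, hv, hv0, fun z hz => ?_⟩
  let ε := (e 1).toLinearMap
  have happ : ∀ b x : F, (e b).toLinearMap x = ε (b * x) := fun b x => by
    conv_lhs => rw [← mul_one b, ← smul_eq_mul, map_smul]
    rfl
  have hnd : ∀ c : F, (∀ x, ε (c * x) = 0) → c = 0 := fun c hc =>
    e.injective (by rw [map_zero]; exact Disc.Omega.ext (LinearMap.ext fun x => (happ c x).trans (hc x)))
  by_contra hno
  push Not at hno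
  let V : Submodule k F := (Ideal.span {v}).restrictScalars k
  let W : Submodule k F := (Ideal.span {z}).restrictScalars k
  have hd : Disjoint V W := by
    rw [Submodule.disjoint_def]
    intro w hw1 hw2
    obtain ⟨r, rfl⟩ := Ideal.mem_span_singleton'.1 hw1
    obtain ⟨r', hr'⟩ := Ideal.mem_span_singleton'.1 hw2
    by_cases hrm : r' ∈ m
    · rw [← hr', hz r' hrm]
    · obtain ⟨y, i, hi, hy⟩ := hm.exists_inv hrm
      refine absurd ?_ (hno (y * r))
      calc z = (y * r' + i) * z := by rw [hy, one_mul]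
        _ = y * r * v := by rw [add_mul, hz i hi, add_zero, mul_assoc, hr', mul_assoc]
  obtain ⟨W', hWW', hW'⟩ := hd.symm.exists_isCompl
  let f : F →ₗ[k] k := ε.comp (V.subtype.comp (V.projectionOnto W' hW'.symm))
  obtain ⟨c, hc⟩ := e.surjective ⟨f⟩
  have hf : ∀ x, ε (c * x) = f x := fun x => by rw [← happ, hc]
  have hcz : c * z = 0 := hnd _ fun x => by
    rw [mul_assoc, hf]
    have hmem : z * x ∈ W' := hWW' (Ideal.mul_mem_right x _ (Ideal.subset_span rfl))
    simp only [f, LinearMap.comp_apply, Submodule.projectionOnto_apply_of_mem_right hW'.symm hmem,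
      map_zero]
  have hz0 : z ≠ 0 := fun h0 => hno 0 (by rw [h0, zero_mul])
  have hcm : c ∈ m := by
    by_contra hcm
    exact hz0 (eq_zero_of_mul_eq_zero hm hz hcm hcz)
  refine hv0 (hnd v fun x => ?_)
  have hmem : v * x ∈ V := Ideal.mul_mem_right x _ (Ideal.subset_span rfl)
  have h4 : f (v * x) = ε (v * x) := by
    simp only [f, LinearMap.comp_apply, Submodule.projectionOnto_apply_of_mem_left hW'.symm hmem,
      Submodule.subtype_apply]
  rw [← h4, ← hf, ← mul_assoc, hv c hcm, zero_mul, map_zero]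

include k in
theorem socAt_iff_gorenstein (m : Ideal F) [hm : m.IsMaximal] :
    SocAt m ↔ LocCoh.IsGorensteinLocalRing (Localization.AtPrime m) := by
  classical
  haveI : IsArtinianRing F := IsArtinianRing.of_finite k F
  let L := Localization.AtPrime m
  have hsurj : Function.Surjective (algebraMap F L) := IsArtinianRing.localization_surjective m.primeCompl L
  have hmem : ∀ a, a ∈ m ↔ algebraMap F L a ∈ maximalIdeal L := fun a =>
    (IsLocalization.AtPrime.to_map_mem_maximal_iff L m a).symm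
  have hker : ∀ s, (∀ a ∈ m, a * s = 0) → algebraMap F L s = 0 → s = 0 := fun s hs h0 => by
    obtain ⟨⟨t, ht⟩, hts⟩ := (IsLocalization.map_eq_zero_iff m.primeCompl L s).1 h0
    exact eq_zero_of_mul_eq_zero hm hs ht hts
  have hpush : ∀ s, (∀ a ∈ m, a * s = 0) → ∀ a ∈ maximalIdeal L, a * algebraMap F L s = 0 := by
    intro s hs a ha
    obtain ⟨a, rfl⟩ := hsurj a
    rw [← map_mul, hs a ((hmem a).2 ha), map_zero]
  have hlift : ∀ z : L, (∀ a ∈ maximalIdeal L, a * z = 0) →
      ∃ t s : F, t ∉ m ∧ (∀ a ∈ m, a * s = 0) ∧ algebraMap F L t * z = algebraMap F L s := by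
    intro z hz
    obtain ⟨x, rfl⟩ := hsurj z
    obtain ⟨S, hS⟩ := (IsNoetherian.noetherian m : m.FG)
    have h1 : ∀ a : S, ∃ t : m.primeCompl, t.1 * ((a : F) * x) = 0 := fun a =>
      (IsLocalization.map_eq_zero_iff m.primeCompl L _).1 (by
        rw [map_mul]; exact hz _ ((hmem a.1).1 (hS ▸ Ideal.subset_span a.2)))
    choose t ht using h1
    let T : m.primeCompl := ∏ a, t a
    refine ⟨T.1, T.1 * x, T.2, fun a ha => ?_, (map_mul _ _ _).symm⟩
    have hle : m ≤ (⊥ : Ideal F).colon ({T.1 * x} : Set F) := by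
      conv_lhs => rw [← hS]
      rw [Ideal.span_le]
      intro b hb
      rw [SetLike.mem_coe, Submodule.mem_colon_singleton, Submodule.mem_bot, smul_eq_mul]
      obtain ⟨u, hu⟩ := Finset.dvd_prod_of_mem t (Finset.mem_univ (⟨b, hb⟩ : S))
      show b * (T.1 * x) = 0
      rw [show T = t ⟨b, hb⟩ * u from hu, Submonoid.coe_mul]
      linear_combination u.1 * ht ⟨b, hb⟩
    simpa [Submodule.mem_colon_singleton] using hle ha
  constructor
  · rintro ⟨v, hv, hv0, hgen⟩
    refine GorFlat.gorenstein_of_socCyclic ⟨algebraMap F L v, fun h => hv0 (hker v hv h), hpush v hv, fun z hz => ?_⟩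
    obtain ⟨t, s, ht, hs, hts⟩ := hlift z hz
    obtain ⟨r, hr⟩ := hgen s hs
    obtain ⟨u, hu⟩ := IsLocalization.map_units L (⟨t, ht⟩ : m.primeCompl)
    refine ⟨(u⁻¹ : Lˣ) * algebraMap F L r, ?_⟩
    rw [mul_assoc, ← map_mul, ← hr, ← hts, ← mul_assoc, ← hu, Units.inv_mul, one_mul]
  · intro hG
    obtain ⟨σ, hσ0, hσ, hgen⟩ := GorFlat.socCyclic_of_gorenstein (R := L)
    obtain ⟨t, v, ht, hv, htv⟩ := hlift σ hσ
    obtain ⟨u, hu⟩ := IsLocalization.map_units L (⟨t, ht⟩ : m.primeCompl)
    have hσv : σ = (u⁻¹ : Lˣ) * algebraMap F L v := by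
      rw [← htv, ← mul_assoc, ← hu, Units.inv_mul, one_mul]
    refine ⟨v, hv, fun h0 => hσ0 (by rw [hσv, h0, map_zero, mul_zero]), fun s hs => ?_⟩
    obtain ⟨c, hc⟩ := hgen _ (hpush s hs)
    rw [hσv, ← mul_assoc] at hc
    obtain ⟨r, hr⟩ := hsurj (c * (u⁻¹ : Lˣ))
    refine ⟨r, sub_eq_zero.1 (hker _ (fun a ha => ?_) (by rw [map_sub, map_mul, hr, ← hc, sub_self]))⟩
    rw [mul_sub, hs a ha, mul_left_comm, hv a ha, mul_zero, sub_zero]

theorem gorenstein_iff_nonempty_omega_equiv :
    LocCoh.IsGorensteinRing F ↔ Nonempty (F ≃ₗ[F] Disc.Omega k F) := by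
  haveI : IsArtinianRing F := IsArtinianRing.of_finite k F
  refine ⟨fun h => nonempty_omega_equiv_of_socAt fun m hm => ?_, fun ⟨e⟩ => ?_⟩
  · haveI := hm
    exact (socAt_iff_gorenstein (k := k) m).2 (h.isGorensteinLocalRing_localization m)
  · refine { isGorensteinLocalRing_localization := fun p hp => ?_ }
    haveI := IsArtinianRing.isMaximal_of_isPrime p
    exact (socAt_iff_gorenstein (k := k) p).1 (socAt_of_omega_equiv e p)

end GrothLib.Different2
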