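import Mathlib
import Groth.Agent.Lib.Different2.BaseChange

/-!
# The dualizing module of a finite free algebra commutes with base change
-/

set_option autoImplicit false

universe u

open TensorProduct

namespace GrothLib.Different2

variable {A B A' B' : Type u} [CommRing A] [CommRing B] [CommRing A'] [CommRing B']
  [Algebra A B] [Algebra A A'] [Algebra B B'] [Algebra A' B'] [Algebra A B']
  [IsScalarTower A A' B'] [IsScalarTower A B B'] (hB : Algebra.IsPushout A A' B B')
  [Module.Finite A B] [Module.Free A B]

include hB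

theorem exists_omega_lift {T : Type u} [AddCommGroup T] [Module B T] [Module B' T]
    [IsScalarTower B B' T] (ℓ : Disc.Omega A B →ₗ[B] T) :
    ∃ L : Disc.Omega A' B' →ₗ[B'] T, ∀ n, L (QFDual.bcFin hB n) = ℓ n := by
  letI : Module A T := Module.compHom T (algebraMap A B')
  letI : Module A' T := Module.compHom T (algebraMap A' B')
  haveI : IsScalarTower A A' T := ⟨fun a a' t => by
    show algebraMap A' B' (a • a') • t = algebraMap A B' a • algebraMap A' B' a' • t
    rw [Algebra.smul_def, map_mul, ← IsScalarTower.algebraMap_apply A A' B', mul_smul]⟩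
  let ℓ₀ : Module.Dual A B →ₗ[A] T :=
    { toFun := fun f => ℓ ⟨f⟩
      map_add' := fun f f' => by rw [← map_add ℓ]; rfl
      map_smul' := fun a f => by
        have e : (⟨a • f⟩ : Disc.Omega A B) = algebraMap A B a • ⟨f⟩ := by
          refine Disc.Omega.ext (LinearMap.ext fun x => ?_)
          show a • f x = f (algebraMap A B a * x)
          rw [← Algebra.smul_def, map_smul]
        show ℓ ⟨a • f⟩ = algebraMap A B' a • ℓ ⟨f⟩
        rw [e, map_smul, IsScalarTower.algebraMap_apply A B B']
        exact (algebraMap_smul B' _ _).symm }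
  let L := hB.out.dual.lift ℓ₀
  have hL : ∀ n, L (QFDual.bcFin hB n).toLinearMap = ℓ n := fun n => hB.out.dual.lift_eq ℓ₀ n.toLinearMap
  have hsmul : ∀ (a : A') (t : T), algebraMap A' B' a • t = a • t := fun _ _ => rfl
  have hsemi : ∀ (ψ : Module.Dual A' B') (x : B'),
      L (x • (⟨ψ⟩ : Disc.Omega A' B')).toLinearMap = x • L ψ := by
    intro ψ
    induction ψ using hB.out.dual.inductionOn with
    | zero =>
      intro x
      rw [map_zero, smul_zero, show (x • (⟨0⟩ : Disc.Omega A' B')).toLinearMap = 0 from LinearMap.zero_comp _, map_zero]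
    | tmul f =>
      intro x
      induction x using hB.out.inductionOn with
      | zero => simp
      | tmul b =>
        show L (algebraMap B B' b • QFDual.bcFin hB ⟨f⟩).toLinearMap = algebraMap B B' b • L (QFDual.bcFin hB ⟨f⟩).toLinearMap
        rw [← bcFin_smul, hL, hL, map_smul, algebraMap_smul]
      | smul a x hx =>
        rw [show ((a • x) • (⟨hB.out.toDual f⟩ : Disc.Omega A' B')).toLinearMap =
          a • (x • (⟨hB.out.toDual f⟩ : Disc.Omega A' B')).toLinearMap from LinearMap.ext fun y => by
            show hB.out.toDual f (a • x * y) = a • hB.out.toDual f (x * y)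
            rw [smul_mul_assoc, map_smul], map_smul, hx, Algebra.smul_def a x, mul_smul, hsmul]
      | add x y hx hy => rw [add_smul, Disc.Omega.add_toLinearMap, map_add, hx, hy, add_smul]
    | smul a ψ hψ =>
      intro x
      rw [show (x • (⟨a • ψ⟩ : Disc.Omega A' B')).toLinearMap = a • (x • (⟨ψ⟩ : Disc.Omega A' B')).toLinearMap from rfl,
        map_smul, hψ, map_smul, ← hsmul, ← hsmul, smul_comm]
    | add ψ ψ' h h' =>
      intro x
      rw [show (x • (⟨ψ + ψ'⟩ : Disc.Omega A' B')).toLinearMap = (x • (⟨ψ⟩ : Disc.Omega A' B')).toLinearMap +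
        (x • (⟨ψ'⟩ : Disc.Omega A' B')).toLinearMap from rfl, map_add, h, h', map_add, smul_add]
  exact ⟨{ toFun := fun ψ => L ψ.toLinearMap
           map_add' := fun ψ ψ' => by rw [Disc.Omega.add_toLinearMap, map_add]
           map_smul' := fun x ψ => hsemi ψ.toLinearMap x }, hL⟩

/-- Formation of the dualizing module of a finite free algebra commutes with base change. -/
theorem exists_omega_baseChangeEquiv :
    ∃ e : B' ⊗[B] Disc.Omega A B ≃ₗ[B'] Disc.Omega A' B', ∀ n, e (1 ⊗ₜ n) = QFDual.bcFin hB n := by
  obtain ⟨L, hL⟩ := exists_omega_lift hB (TensorProduct.mk B B' (Disc.Omega A B) 1)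
  let Φ : B' ⊗[B] Disc.Omega A B →+ Disc.Omega A' B' :=
    TensorProduct.liftAddHom
      (AddMonoidHom.mk' (fun x : B' => AddMonoidHom.mk' (fun n => x • QFDual.bcFin hB n)
        fun n n' => by rw [map_add, smul_add])
        fun x y => AddMonoidHom.ext fun n => add_smul x y _)
      fun r x n => by
        show (r • x) • QFDual.bcFin hB n = x • QFDual.bcFin hB (r • n)
        rw [bcFin_smul, ← mul_smul, Algebra.smul_def, mul_comm]
  let Φ' : B' ⊗[B] Disc.Omega A B →ₗ[B'] Disc.Omega A' B' :=
    { toFun := Φ, map_add' := Φ.map_add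
      map_smul' := fun c z => by
        induction z using TensorProduct.induction_on with
        | zero => rw [smul_zero, map_zero, smul_zero]
        | tmul x n => exact mul_smul c x _
        | add x y hx hy => rw [smul_add, map_add, hx, hy, map_add, smul_add] }
  have h1 : L ∘ₗ Φ' = LinearMap.id := by
    refine LinearMap.ext fun z => ?_
    induction z using TensorProduct.induction_on with
    | zero => simp
    | tmul x n =>
      show L (x • QFDual.bcFin hB n) = x ⊗ₜ n
      rw [map_smul, hL, mk_apply, smul_tmul', smul_eq_mul, mul_one]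
    | add x y hx hy => rw [map_add, hx, hy, map_add]
  have h2 : Φ' ∘ₗ L = LinearMap.id := by
    refine LinearMap.ext fun ψ => ?_
    induction bcFin_span hB ψ using Submodule.span_induction with
    | mem ψ hψ =>
      obtain ⟨n, rfl⟩ := hψ
      show Φ (L _) = _
      rw [hL]
      exact one_smul B' (QFDual.bcFin hB n)
    | zero => simp
    | add x y _ _ hx hy => rw [map_add, hx, hy, map_add]
    | smul x ψ _ h => rw [map_smul, h, map_smul]
  refine ⟨LinearEquiv.ofLinear Φ' L h2 h1, fun n => ?_⟩
  exact one_smul B' (QFDual.bcFin hB n)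

end GrothLib.Different2
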